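import Mathlib

/-! Generating functions for bounded-exponent monomial counts. -/

open Finset

namespace Groth.Agent.Count86

/-- positive elements of `Fin p` -/
def pos (p : ℕ) : Finset (Fin p) := univ.filter fun a => 1 ≤ (a : ℕ)

lemma sum_pos {T : Type*} [AddCommMonoid T] (p : ℕ) (f : ℕ → T) :
    ∑ a ∈ pos p, f a = ∑ a ∈ Icc 1 (p - 1), f a := by
  refine sum_bij (fun a _ => (a : ℕ)) ?_ ?_ ?_ (fun _ _ => rfl)
  · intro a ha
    simp only [pos, mem_filter, mem_univ, true_and] at ha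
    have := a.isLt
    simp only [mem_Icc]
    omega
  · intro a _ b _ h
    exact Fin.ext h
  · intro b hb
    simp only [mem_Icc] at hb
    exact ⟨⟨b, by omega⟩, by simp [pos, hb.1], rfl⟩

lemma sum_pow_pos {T : Type*} [CommSemiring T] (p n : ℕ) (w : ℕ → T) :
    (∑ a ∈ Icc 1 (p - 1), w a) ^ n =
      ∑ e ∈ (univ : Finset (Fin n → Fin p)).filter (fun e => ∀ i, 1 ≤ (e i : ℕ)),
        ∏ i, w (e i) := by
  classical
  rw [← sum_pos, sum_pow']
  refine sum_congr ?_ fun _ _ => rfl
  ext e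
  simp [pos, Fintype.mem_piFinset]

lemma card_eq_coeff {T : Type*} [CommSemiring T] (p n s : ℕ) :
    (Fintype.card {e : Fin n → Fin p // (∀ i, 1 ≤ (e i : ℕ)) ∧ ∑ i, (e i : ℕ) = s} : T) =
      ((∑ a ∈ Icc 1 (p - 1), (Polynomial.X : Polynomial T) ^ a) ^ n).coeff s := by
  classical
  rw [sum_pow_pos, Polynomial.finsetSum_coeff, Fintype.card_subtype, card_filter, Nat.cast_sum,
    sum_filter]
  refine sum_congr rfl fun e _ => ?_
  rw [prod_pow_eq_pow_sum]
  by_cases h : ∀ i, 1 ≤ (e i : ℕ)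
  · simp only [h, implies_true, true_and, if_true, Polynomial.coeff_X_pow]
    simp only [eq_comm (a := s)]
    split_ifs <;> simp
  · simp [h]

end Groth.Agent.Count86
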